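import Mathlib
import Cfsg.Agent.FeitCoh.Kernel
import Cfsg.Agent.FeitCoh.Product
import Cfsg.Agent.OddCoh.Central
import Cfsg.Agent.OddCoh.Extend
import Cfsg.Agent.CharBasics.LinearOver

/-!
The two layers of characters of a Frobenius group of odd order whose kernel is a `p`-group.
-/

set_option autoImplicit false

namespace CfsgLib.OddCoh

open CfsgLib.CharBasics CfsgLib.Exceptional CfsgLib.FeitCoh

universe u v

variable {X : Type u} [Group X] [Fintype X] (K : Subgroup X) [K.Normal]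
  (hC : ∀ n ∈ K, n ≠ 1 → Subgroup.centralizer ({n} : Set X) ≤ K)
  (Z : Subgroup X) [Z.Normal] (hZK : Z ≤ K) (hZc : ∀ z ∈ Z, ∀ k ∈ K, z * k = k * z)

omit [Fintype X] [K.Normal] [Z.Normal] in
include hZc in
theorem subgroupOf_le_center : Z.subgroupOf K ≤ Subgroup.center K := fun z hz =>
  Subgroup.mem_center_iff.2 fun k => Subtype.ext (hZc z (Subgroup.mem_subgroupOf.1 hz) k k.2).symm

omit [Fintype X] [K.Normal] [Z.Normal] in
include hZK in
theorem rel_mono {χ : X → ℂ} (h : Rel Z χ) : Rel K χ := by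
  obtain ⟨z, hz, hz'⟩ := h
  exact ⟨z, hZK hz, hz'⟩

omit [K.Normal] in
include hZK hZc in
theorem rel_indFun_iff [Fintype K] (θ : Cfsg.IrrCharacter K) :
    Rel Z (Cfsg.indFun K (θ : K → ℂ)) ↔ Rel (Z.subgroupOf K) (θ : K → ℂ) := by
  classical
  haveI := Fintype.ofFinite (Z.subgroupOf K)
  haveI := Fintype.ofFinite Z
  have hK0 : (Nat.card K : ℂ) ≠ 0 := Nat.cast_ne_zero.2 Nat.card_pos.ne'
  constructor
  · intro hr
    by_contra h
    obtain ⟨z, hz, hne⟩ := hr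
    refine hne ?_
    simp only [Cfsg.indFun]
    congr 1
    refine Finset.sum_congr rfl fun x _ => ?_
    have hc : x⁻¹ * z * x ∈ Z := by simpa using (inferInstance : Z.Normal).conj_mem z hz x⁻¹
    rw [mul_one, inv_mul_cancel, ← Subgroup.coe_one K, extendByZero_coe, extendByZero_coe K _ ⟨_, hZK hc⟩]
    exact not_rel h (Subgroup.mem_subgroupOf.2 hc)
  · intro hr
    by_contra h
    rcases sum_central (Z.subgroupOf K) (subgroupOf_le_center K Z hZc) θ with h0 | h0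
    · obtain ⟨k, hk, hne⟩ := hr
      exact hne (h0 k hk)
    have h1 : ∑ z : Z, Cfsg.indFun K (θ : K → ℂ) z = 0 := by
      simp only [Cfsg.indFun, ← Finset.mul_sum]
      rw [Finset.sum_comm, Finset.sum_eq_zero, mul_zero]
      intro x _
      rw [← h0]
      let e : Z ≃ Z.subgroupOf K :=
        { toFun := fun z => ⟨⟨x⁻¹ * z * x, hZK (by simpa using (inferInstance : Z.Normal).conj_mem z z.2 x⁻¹)⟩,
            Subgroup.mem_subgroupOf.2 (by simpa using (inferInstance : Z.Normal).conj_mem z z.2 x⁻¹)⟩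
          invFun := fun w => ⟨x * ((w : K) : X) * x⁻¹,
            (inferInstance : Z.Normal).conj_mem _ (Subgroup.mem_subgroupOf.1 w.2) x⟩
          left_inv := fun z => Subtype.ext (by simp [mul_assoc])
          right_inv := fun w => Subtype.ext (Subtype.ext (by simp [mul_assoc])) }
      exact Fintype.sum_equiv e _ _ fun z => extendByZero_coe K _ ((e z : Z.subgroupOf K) : K)
    rw [Finset.sum_congr rfl (fun (z : Z) _ => not_rel h z.2), Finset.sum_const, Finset.card_univ,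
      nsmul_eq_mul, indFun_apply_one] at h1
    have hi : (K.index : ℂ) ≠ 0 := Nat.cast_ne_zero.2 Subgroup.index_ne_zero_of_finite
    exact mul_ne_zero (Nat.cast_ne_zero.2 Fintype.card_ne_zero) (mul_ne_zero hi (apply_one_ne_zero θ.2)) h1

include hC hZK hZc in
/-- Degree sums of the characters not trivial on `Z`. -/
theorem sum_pdeg_sq_top [Fintype K] [Fintype (Cfsg.IrrCharacter K)] [Fintype (Cfsg.IrrCharacter X)]
    [DecidableEq (Cfsg.IrrCharacter K)] [DecidablePred fun χ : Cfsg.IrrCharacter X => Rel Z (χ : X → ℂ)]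
    [DecidablePred fun θ : Cfsg.IrrCharacter K => Rel (Z.subgroupOf K) (θ : K → ℂ)]
    (P : ℕ → Prop) [DecidablePred P] :
    K.index * ∑ χ ∈ Finset.univ.filter (fun χ : Cfsg.IrrCharacter X => Rel Z (χ : X → ℂ)),
        (if P (pdeg K (χ : X → ℂ)) then pdeg K (χ : X → ℂ) ^ 2 else 0) =
      ∑ θ : Cfsg.IrrCharacter K,
        (if Rel (Z.subgroupOf K) (θ : K → ℂ) ∧ P (Cfsg.charDegree (θ : K → ℂ))
          then Cfsg.charDegree (θ : K → ℂ) ^ 2 else 0) := by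
  classical
  set T := Finset.univ.filter (fun θ : Cfsg.IrrCharacter K => Rel (Z.subgroupOf K) (θ : K → ℂ)) with hT
  have hrhs : ∑ θ : Cfsg.IrrCharacter K,
        (if Rel (Z.subgroupOf K) (θ : K → ℂ) ∧ P (Cfsg.charDegree (θ : K → ℂ))
          then Cfsg.charDegree (θ : K → ℂ) ^ 2 else 0) =
      ∑ θ ∈ T, (if P (Cfsg.charDegree (θ : K → ℂ)) then Cfsg.charDegree (θ : K → ℂ) ^ 2 else 0) := by
    rw [hT, Finset.sum_filter]
    exact Finset.sum_congr rfl fun θ _ => ite_and _ _ _ _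
  rw [hrhs, Finset.mul_sum]
  let f : Cfsg.IrrCharacter K → Cfsg.IrrCharacter X := fun θ =>
    if h : (θ : K → ℂ) = fun _ => 1 then oneChar else ⟨_, (induced_irr K hC θ.2 h).1⟩
  have hne : ∀ θ ∈ T, (θ : K → ℂ) ≠ fun _ => 1 := fun θ hθ h => by
    obtain ⟨k, -, hk⟩ := (Finset.mem_filter.1 hθ).2
    exact hk (by rw [h])
  have hfθ : ∀ θ ∈ T, (f θ : X → ℂ) = Cfsg.indFun K (θ : K → ℂ) := fun θ hθ => by
    simp only [f, dif_neg (hne θ hθ)]
  have hmaps : ∀ θ ∈ T, f θ ∈ Finset.univ.filter (fun χ : Cfsg.IrrCharacter X => Rel Z (χ : X → ℂ)) :=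
    fun θ hθ => Finset.mem_filter.2 ⟨Finset.mem_univ _, by
      rw [hfθ θ hθ]; exact (rel_indFun_iff K Z hZK hZc θ).2 (Finset.mem_filter.1 hθ).2⟩
  rw [← Finset.sum_fiberwise_of_maps_to hmaps]
  refine Finset.sum_congr rfl fun χ hχ => ?_
  have hχZ := (Finset.mem_filter.1 hχ).2
  have hfib : T.filter (fun θ => f θ = χ) =
      (Finset.univ.erase (oneChar : Cfsg.IrrCharacter K)).filter fun θ : Cfsg.IrrCharacter K => Cfsg.indFun K (θ : K → ℂ) = (χ : X → ℂ) := by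
    ext θ
    simp only [Finset.mem_filter, Finset.mem_erase, Finset.mem_univ, and_true]
    constructor
    · rintro ⟨h1, h2⟩
      exact ⟨fun e => hne θ h1 (congrArg Subtype.val e), by rw [← hfθ θ h1, h2]⟩
    · rintro ⟨-, h2⟩
      have h1 : θ ∈ T := Finset.mem_filter.2 ⟨Finset.mem_univ _, (rel_indFun_iff K Z hZK hZc θ).1 (h2 ▸ hχZ)⟩
      exact ⟨h1, Subtype.ext ((hfθ θ h1).trans h2)⟩
  rw [hfib]
  trans ∑ θ ∈ (Finset.univ.erase (oneChar : Cfsg.IrrCharacter K)).filter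
      (fun θ : Cfsg.IrrCharacter K => Cfsg.indFun K (θ : K → ℂ) = (χ : X → ℂ)),
      (if P (pdeg K (χ : X → ℂ)) then pdeg K (χ : X → ℂ) ^ 2 else 0)
  · rw [Finset.sum_const, card_fibre K hC _ χ.2 (rel_mono K Z hZK hχZ), smul_eq_mul]
  · refine Finset.sum_congr rfl fun θ hθ => ?_
    obtain ⟨hθ1, hθ2⟩ := Finset.mem_filter.1 hθ
    rw [← hθ2, pdeg_induced K hC θ.2 (fun h => Finset.ne_of_mem_erase hθ1 (Subtype.ext h))]

include hC in
theorem conj_mem_rel (hodd : Odd (Nat.card X)) {χ : X → ℂ} (hχ : Cfsg.IsIrrCharacter X χ) (hr : Rel K χ)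
    (W : Subgroup X) (hrW : Rel W χ) :
    Cfsg.IsIrrCharacter X (Cfsg.conjFun χ) ∧ Cfsg.conjFun χ ≠ χ ∧ Rel W (Cfsg.conjFun χ) ∧
      pdeg K (Cfsg.conjFun χ) = pdeg K χ := by
  have hcW : ∀ U : Subgroup X, Rel U χ → Rel U (Cfsg.conjFun χ) := fun U hU => by
    obtain ⟨z, hz, hz'⟩ := hU
    exact ⟨z, hz, fun e => hz' ((starRingEnd ℂ).injective e)⟩
  refine ⟨irr_conjFun hχ, conjFun_ne_of_odd hodd hχ (rel_ne_one K hC hχ hr), hcW W hrW, ?_⟩
  have h := conjFun_apply_one (isCharacter_of_irr hχ)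
  rw [apply_one (isCharacter_of_irr hχ), apply_one (isCharacter_of_irr (irr_conjFun hχ)), Nat.cast_inj] at h
  rw [pdeg, pdeg, h]

include hC hZK hZc in
/-- A power of `p`, and its consequences for the sums. -/
theorem top_facts {p : ℕ} [Fact p.Prime] (hp : IsPGroup p K) {χ : X → ℂ} (hχ : Cfsg.IsIrrCharacter X χ)
    (hr : Rel K χ) :
    (∃ i, pdeg K χ = p ^ i) ∧ ∃ θ : Cfsg.IrrCharacter K,
      Cfsg.indFun K (θ : K → ℂ) = χ ∧ Cfsg.charDegree (θ : K → ℂ) = pdeg K χ ∧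
        (Rel (Z.subgroupOf K) (θ : K → ℂ) ↔ Rel Z χ) := by
  obtain ⟨n, hn⟩ := IsPGroup.iff_card.1 hp
  obtain ⟨i, -, hi⟩ := (Nat.dvd_prime_pow Fact.out).1 (hn ▸ (pdeg_spec K hC hχ hr).2.1)
  haveI := Fintype.ofFinite K
  obtain ⟨θ, hθ, hind⟩ := Cfsg.Agent.S1528.result K hC χ hχ hr
  have hθ1 : θ ≠ fun _ => 1 := by
    rintro rfl
    obtain ⟨k, hk, hne⟩ := hr
    apply hne
    rw [hind]
    simp only [Cfsg.indFun]
    congr 1
    refine Finset.sum_congr rfl fun x _ => ?_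
    have hc : x⁻¹ * k * x ∈ K := by simpa using (inferInstance : K.Normal).conj_mem k hk x⁻¹
    rw [mul_one, inv_mul_cancel, ← Subgroup.coe_one K, extendByZero_coe, extendByZero_coe K _ ⟨_, hc⟩]
  refine ⟨⟨i, hi⟩, ⟨θ, hθ⟩, hind.symm, ?_, ?_⟩
  · show Cfsg.charDegree θ = _
    rw [hind, pdeg_induced K hC hθ hθ1]
  · rw [hind]; exact (rel_indFun_iff K Z hZK hZc ⟨θ, hθ⟩).symm

include hC hZK hZc in
/-- The characters not trivial on `Z` form a coherent set. -/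
theorem coherent_top {G : Type v} [Group G] [Fintype G] (hodd : Odd (Nat.card X)) {p : ℕ} [Fact p.Prime]
    (hp2 : p ≠ 2) (hp : IsPGroup p K) (hZ : Z ≠ ⊥) (τ : (X → ℂ) → (G → ℂ))
    (hτ : Cfsg.IsLinearIsometryOn (Cfsg.zspanOn {χ : X → ℂ | Cfsg.IsIrrCharacter X χ ∧ Rel Z χ} {1}ᶜ) τ)
    (hτ1 : ∀ α ∈ Cfsg.zspanOn {χ : X → ℂ | Cfsg.IsIrrCharacter X χ ∧ Rel Z χ} {1}ᶜ, τ α 1 = 0) :
    Cfsg.IsCoherent {χ : X → ℂ | Cfsg.IsIrrCharacter X χ ∧ Rel Z χ} {1}ᶜ τ := by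
  classical
  haveI := Fintype.ofFinite K
  haveI : Fintype (Cfsg.IrrCharacter X) := Fintype.ofFinite _
  haveI : Fintype (Cfsg.IrrCharacter K) := Fintype.ofFinite _
  set e := K.index
  have he0 : 0 < e := Nat.pos_of_ne_zero Subgroup.index_ne_zero_of_finite
  set F := Finset.univ.filter fun χ : Cfsg.IrrCharacter X => Rel Z (χ : X → ℂ) with hF
  set S : Finset (X → ℂ) := F.image Subtype.val with hS
  have hmemS : ∀ χ, χ ∈ S ↔ Cfsg.IsIrrCharacter X χ ∧ Rel Z χ := fun χ => by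
    simp only [S, F, Finset.mem_image, Finset.mem_filter, Finset.mem_univ, true_and]
    exact ⟨fun ⟨c, hc, he'⟩ => he' ▸ ⟨c.2, hc⟩, fun ⟨h1, h2⟩ => ⟨⟨χ, h1⟩, h2, rfl⟩⟩
  have hset : {χ : X → ℂ | Cfsg.IsIrrCharacter X χ ∧ Rel Z χ} = (↑S : Set (X → ℂ)) := by
    ext χ; simp only [Set.mem_ofPred_eq, Finset.mem_coe, hmemS]
  rw [hset] at hτ hτ1 ⊢
  set d : (X → ℂ) → ℕ := fun χ => Cfsg.charDegree χ with hd
  have hdS : ∀ χ ∈ S, χ 1 = (d χ : ℂ) := fun χ h => apply_one (isCharacter_of_irr ((hmemS χ).1 h).1)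
  have hrK : ∀ χ ∈ S, Rel K χ := fun χ h => rel_mono K Z hZK ((hmemS χ).1 h).2
  have hdeg : ∀ χ ∈ S, d χ = e * pdeg K χ := fun χ h => (pdeg_spec K hC ((hmemS χ).1 h).1 (hrK χ h)).2.2.2
  have hSne : S.Nonempty := by
    by_contra h
    rw [Finset.not_nonempty_iff_eq_empty, hS, Finset.image_eq_empty] at h
    have h' := sum_pdeg_sq_top K hC Z hZK hZc (fun _ => True)
    rw [← hF, h, Finset.sum_empty, mul_zero] at h'
    simp only [and_true] at h'
    rw [sum_nontrivial_sq _ (subgroupOf_le_center K Z hZc)] at h'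
    haveI : Nontrivial (Z.subgroupOf K) := by
      rw [Subgroup.nontrivial_iff_ne_bot]
      intro hb
      refine hZ ((Subgroup.eq_bot_iff_forall _).2 fun z hz => ?_)
      have := (Subgroup.eq_bot_iff_forall _).1 hb ⟨z, hZK hz⟩ (Subgroup.mem_subgroupOf.2 hz)
      exact congrArg Subtype.val this
    have := Finite.one_lt_card (α := Z.subgroupOf K)
    rcases mul_eq_zero.1 h'.symm with h0 | h0
    · exact Subgroup.index_ne_zero_of_finite h0
    · omega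
  obtain ⟨ψ, hψ, hmin⟩ := Finset.exists_min_image S (fun χ => pdeg K χ) hSne
  set S₁ := S.filter fun χ => pdeg K χ = pdeg K ψ with hS₁
  have hψ1 : ψ ∈ S₁ := Finset.mem_filter.2 ⟨hψ, rfl⟩
  have hS₁2 : 1 < S₁.card := by
    obtain ⟨h1, h2, h3, h4⟩ := conj_mem_rel K hC hodd ((hmemS ψ).1 hψ).1 (hrK ψ hψ) Z ((hmemS ψ).1 hψ).2
    exact Finset.one_lt_card.2 ⟨_, Finset.mem_filter.2 ⟨(hmemS _).2 ⟨h1, h3⟩, h4⟩, ψ, hψ1, h2⟩
  have hS₁sub : S₁ ⊆ S := Finset.filter_subset _ _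
  have hmono : (↑S₁ : Set (X → ℂ)) ⊆ ↑S := Finset.coe_subset.2 hS₁sub
  have hcoh₁ := coherent_equal S₁ (fun χ h => ((hmemS χ).1 (hS₁sub h)).1) hS₁2 (e * pdeg K ψ)
    (fun χ h => by rw [hdS χ (hS₁sub h), hdeg χ (hS₁sub h), (Finset.mem_filter.1 h).2])
    τ (isometry_mono hτ (zspanOn_mono hmono _)) (fun α hα => hτ1 α (zspanOn_mono hmono _ hα))
  refine coherent_extend S S₁ hS₁sub (fun χ h => ((hmemS χ).1 h).1) d hdS τ hτ hτ1 hcoh₁ ψ hψ1 ?_
  intro χ hχ hχ1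
  obtain ⟨⟨a, ha⟩, -⟩ := top_facts K hC Z hZK hZc hp ((hmemS ψ).1 hψ).1 (hrK ψ hψ)
  obtain ⟨⟨i, hi⟩, θ, -, hθd, hθZ⟩ := top_facts K hC Z hZK hZc hp ((hmemS χ).1 hχ).1 (hrK χ hχ)
  have hai : a < i := by
    have h1 := hmin χ hχ
    have h2 : pdeg K χ ≠ pdeg K ψ := fun h => hχ1 (Finset.mem_filter.2 ⟨hχ, h⟩)
    have h3 : p ^ a < p ^ i := by rw [← ha, ← hi]; omega
    exact (Nat.pow_lt_pow_iff_right (Fact.out : p.Prime).one_lt).1 h3
  refine ⟨by rw [hdeg ψ hψ, hdeg χ hχ, ha, hi]; exact Nat.mul_dvd_mul_left _ (Nat.pow_dvd_pow p hai.le), ?_⟩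
  set Q := ∑ ξ ∈ F, (if pdeg K (ξ : X → ℂ) < pdeg K χ then pdeg K (ξ : X → ℂ) ^ 2 else 0) with hQ
  have hQ' := sum_pdeg_sq_top K hC Z hZK hZc (fun n => n < pdeg K χ)
  have hdiv := sq_dvd_below (Z.subgroupOf K) (subgroupOf_le_center K Z hZc) hp θ
  rw [hθd] at hdiv
  rw [← hF, ← hQ] at hQ'
  rw [← hQ'] at hdiv
  have hcop : (pdeg K χ ^ 2).Coprime e :=
    Nat.Coprime.pow_left _ ((coprime_index K hC).coprime_dvd_left (pdeg_spec K hC ((hmemS χ).1 hχ).1 (hrK χ hχ)).2.1)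
  have hdQ : pdeg K χ ^ 2 ∣ Q := hcop.dvd_of_dvd_mul_left hdiv
  have hQpos : 0 < Q := by
    have hm : (⟨ψ, ((hmemS ψ).1 hψ).1⟩ : Cfsg.IrrCharacter X) ∈ F :=
      Finset.mem_filter.2 ⟨Finset.mem_univ _, ((hmemS ψ).1 hψ).2⟩
    refine lt_of_lt_of_le ?_ (Finset.single_le_sum (fun _ _ => Nat.zero_le _) hm)
    show 0 < (if pdeg K ψ < pdeg K χ then pdeg K ψ ^ 2 else 0)
    rw [if_pos (by rw [ha, hi]; exact Nat.pow_lt_pow_right (Fact.out : p.Prime).one_lt hai), ha]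
    exact pow_pos (pow_pos (Fact.out : p.Prime).pos _) _
  have hR : e ^ 2 * Q = ∑ ξ ∈ S.filter (fun ξ => d ξ < d χ), d ξ ^ 2 := by
    rw [hQ, Finset.sum_filter (s := S), hS, Finset.sum_image Subtype.val_injective.injOn, Finset.mul_sum]
    refine Finset.sum_congr rfl fun ξ hξ => ?_
    have hξS : (ξ : X → ℂ) ∈ S := Finset.mem_image_of_mem _ hξ
    rw [hdeg _ hξS, hdeg χ hχ]
    by_cases h : pdeg K (ξ : X → ℂ) < pdeg K χ
    · rw [if_pos h, if_pos (Nat.mul_lt_mul_of_pos_left h he0)]; ring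
    · rw [if_neg h, if_neg (fun h' => h (Nat.lt_of_mul_lt_mul_left h')), mul_zero]
  have h3a : 3 * p ^ a ≤ p ^ i := by
    calc 3 * p ^ a ≤ p * p ^ a := Nat.mul_le_mul_right _ (by have := (Fact.out : p.Prime).two_le; omega)
      _ = p ^ (a + 1) := by rw [pow_succ]; ring
      _ ≤ p ^ i := Nat.pow_le_pow_right (Fact.out : p.Prime).pos hai
  have hQle := Nat.le_of_dvd hQpos hdQ
  calc 2 * d ψ * d χ = e ^ 2 * (2 * p ^ a * p ^ i) := by rw [hdeg ψ hψ, hdeg χ hχ, ha, hi]; ring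
    _ < e ^ 2 * Q := by
        refine Nat.mul_lt_mul_of_pos_left ?_ (by positivity)
        rw [hi] at hQle
        have : 0 < p ^ i := pow_pos (Fact.out : p.Prime).pos _
        have hpa : 0 < p ^ a := pow_pos (Fact.out : p.Prime).pos _
        nlinarith
    _ = _ := hR
    _ ≤ _ := Finset.sum_le_sum_of_subset (Finset.monotone_filter_right _ fun _ _ h => Or.inr h)

end CfsgLib.OddCoh
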