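import Mathlib
import Cfsg.Agent.OddCoh.Layers
import Cfsg.Agent.OddCoh.Congr
import Cfsg.Agent.Exceptional.FrobTI
import Cfsg.Agent.Exceptional.Bessel
import Cfsg.Agent.BrauerInd.IndAlgebra
import Cfsg.Agent.PReduced.Hom
import Cfsg.Agent.S1531

/-!
Coherence for a non-abelian trivial-intersection `p`-subgroup, `p` odd, with odd local subgroup.
-/

set_option autoImplicit false

namespace CfsgLib.OddCoh

open CfsgLib.CharBasics CfsgLib.Exceptional CfsgLib.FeitCoh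
open scoped commutatorElement

universe u

variable {G : Type u} [Group G] [Fintype G] (K : Subgroup G)
  [Fintype ↥(Subgroup.normalizer (K : Set G))]
  (hTI : ∀ g : G, g ∉ Subgroup.normalizer (K : Set G) → ∀ k ∈ K, g * k * g⁻¹ ∈ K → k = 1)
  (hC : ∀ k ∈ K, k ≠ 1 → Subgroup.centralizer ({k} : Set G) ≤ K)

local notation "L" => Subgroup.normalizer (K : Set G)

include hTI hC in
theorem ind_isometry {S : Set (↥L → ℂ)}
    (hS : ∀ χ ∈ S, Cfsg.IsIrrCharacter _ χ ∧ Rel (K.subgroupOf L) χ) :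
    Cfsg.IsLinearIsometryOn (Cfsg.zspanOn S ({1}ᶜ : Set ↥L)) (fun α : ↥L → ℂ => Cfsg.indFun L α) ∧
      ∀ α ∈ Cfsg.zspanOn S ({1}ᶜ : Set ↥L), Cfsg.indFun L α 1 = 0 := by
  have hgen : ∀ α ∈ Cfsg.zspanOn S ({1}ᶜ : Set ↥L), Cfsg.IsGeneralizedCharacter ↥L α := fun α hα => by
    have h := (mem_on_one.1 hα).1
    clear hα
    induction h using Submodule.span_induction with
    | mem χ hχ => exact gen_of_character (isCharacter_of_irr (hS χ hχ).1)
    | zero => exact gen_zero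
    | add a b _ _ ha hb => exact gen_add ha hb
    | smul c a _ ha => exact gen_zsmul ha c
  refine ⟨⟨fun a _ b _ => CfsgLib.BrauerInd.indFun_add _ _ _, fun a _ n => ?_, fun a ha b hb => ?_,
    fun a ha => gen_indFun _ (hgen a ha)⟩, fun α hα => ?_⟩
  · show Cfsg.indFun L (n • a) = n • Cfsg.indFun L a
    rw [← Int.cast_smul_eq_zsmul ℂ, ← Int.cast_smul_eq_zsmul ℂ, CfsgLib.BrauerInd.indFun_smul]
  · obtain ⟨-, ha'⟩ := rel_supp K hC hS ha
    obtain ⟨hbc, hb'⟩ := rel_supp K hC hS hb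
    exact classInner_indFun_indFun (frobTI_setup K hTI) hbc ha' hb'
  · rw [indFun_apply_one, (mem_on_one.1 hα).2, mul_zero]

variable (Zs : Subgroup G)

include hTI hC in
/-- The divisibility forced by the congruence. -/
theorem coeff_dvd (hodd : Odd (Nat.card ↥L))
    [(Zs.subgroupOf L).Normal] (hZ1 : Zs ≠ ⊥) (hZK : Zs ≤ K) (hZc : ∀ z ∈ Zs, ∀ k ∈ K, z * k = k * z)
    {F : G → ℂ} (hF : Cfsg.IsGeneralizedCharacter G F) (hF1 : Cfsg.classInner F F = 1)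
    {ψ : ↥L → ℂ} (hψ : Cfsg.IsIrrCharacter _ ψ) (hψZ : Rel (Zs.subgroupOf L) ψ)
    (hprop : ∀ χ : ↥L → ℂ, Cfsg.IsIrrCharacter _ χ → Rel (Zs.subgroupOf L) χ →
      ψ 1 * Cfsg.classInner (fun x : ↥L => F x) χ = χ 1 * Cfsg.classInner (fun x : ↥L => F x) ψ) :
    ∃ m : ℤ, Cfsg.classInner (fun x : ↥L => F x) ψ = m ∧ (pdeg (K.subgroupOf L) ψ : ℤ) ∣ m := by
  classical
  haveI : Fintype (Cfsg.IrrCharacter ↥L) := Fintype.ofFinite _
  set f : ↥L → ℂ := fun x => F x with hf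
  have hfgen : Cfsg.IsGeneralizedCharacter ↥L f := by
    obtain ⟨a, b, ha, hb, rfl⟩ := hF
    exact ⟨_, _, isCharacter_restrict ha L, isCharacter_restrict hb L, rfl⟩
  obtain ⟨m, hm⟩ := gen_inner_int hfgen ⟨ψ, hψ⟩
  refine ⟨m, hm, ?_⟩
  have hC' := centralizer_le_in_normalizer K hC
  have hZK' : Zs.subgroupOf L ≤ K.subgroupOf L := fun x hx =>
    Subgroup.mem_subgroupOf.2 (hZK (Subgroup.mem_subgroupOf.1 hx))
  obtain ⟨hp0, -, hψ1, -⟩ := pdeg_spec _ hC' hψ (rel_mono _ _ hZK' hψZ)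
  set e := (K.subgroupOf L).index
  set pa := pdeg (K.subgroupOf L) ψ
  have he0 : (e : ℂ) ≠ 0 := Nat.cast_ne_zero.2 Subgroup.index_ne_zero_of_finite
  have hpa : (pa : ℂ) ≠ 0 := Nat.cast_ne_zero.2 hp0.ne'
  have hcard : Nat.card (K.subgroupOf L) = Nat.card K :=
    Nat.card_congr (Subgroup.subgroupOfEquivOfLe Subgroup.le_normalizer).toEquiv
  have hLcard : (Nat.card ↥L : ℂ) = (Nat.card K : ℂ) * e := by
    rw [← Nat.cast_mul, ← hcard, Subgroup.card_mul_index]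
  -- the values on `Z`
  have hval : ∀ z ∈ Zs, z ≠ 1 → F z = F 1 - ((m : ℂ) * Nat.card K) / pa := by
    intro z hz hz1
    have hzL : z ∈ L := Subgroup.le_normalizer (hZK hz)
    set zz : ↥L := ⟨z, hzL⟩
    have hzz : zz ≠ 1 := fun h => hz1 (congrArg Subtype.val h)
    have hexp := classFun_expand (gen_isClassFunction hfgen)
    have e1 := congrFun hexp zz
    have e2 := congrFun hexp 1
    simp only [Finset.sum_apply, Pi.smul_apply, smul_eq_mul] at e1 e2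
    show f zz = f 1 - _
    have h0 : ∑ χ : Cfsg.IrrCharacter ↥L, (χ : ↥L → ℂ) 1 * ((χ : ↥L → ℂ) 1 - (χ : ↥L → ℂ) zz) =
        (Nat.card ↥L : ℂ) := by
      simp only [mul_sub, Finset.sum_sub_distrib]
      rw [← sum_sq_degree (G := ↥L), Nat.cast_sum]
      have : ∑ χ : Cfsg.IrrCharacter ↥L, (χ : ↥L → ℂ) 1 * (χ : ↥L → ℂ) zz = 0 := by
        rw [← sum_mul_degree hzz]
        exact Finset.sum_congr rfl fun χ _ => by rw [apply_one (isCharacter_of_irr χ.2)]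
      rw [this, sub_zero]
      exact Finset.sum_congr rfl fun χ _ => by rw [apply_one (isCharacter_of_irr χ.2)]; push_cast; ring
    have h1 : ψ 1 * (f 1 - f zz) = (m : ℂ) * Nat.card ↥L := by
      rw [e1, e2, ← Finset.sum_sub_distrib, Finset.mul_sum, ← h0, Finset.mul_sum]
      refine Finset.sum_congr rfl fun χ _ => ?_
      by_cases hr : Rel (Zs.subgroupOf L) (χ : ↥L → ℂ)
      · have := hprop _ χ.2 hr
        simp only at hm
        rw [hm] at this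
        linear_combination ((χ : ↥L → ℂ) 1 - (χ : ↥L → ℂ) zz) * this
      · rw [not_rel hr (Subgroup.mem_subgroupOf.2 (show (zz : G) ∈ Zs from hz))]
        ring
    rw [hψ1, hLcard] at h1
    push_cast at h1
    rw [eq_sub_iff_add_eq, ← eq_sub_iff_add_eq', div_eq_iff hpa]
    have h2 : (e : ℂ) * ((pa : ℂ) * (f 1 - f zz)) = (e : ℂ) * ((m : ℂ) * Nat.card K) := by linear_combination h1
    linear_combination -(mul_left_cancel₀ he0 h2)
  obtain ⟨⟨z, hz⟩, hzne⟩ := Subgroup.ne_bot_iff_exists_ne_one.1 hZ1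
  have hz1 : z ≠ 1 := fun h => hzne (Subtype.ext h)
  have hcop : (Nat.card K).Coprime (K.relIndex L) := by
    have := coprime_index (K.subgroupOf L) hC'
    rwa [hcard] at this
  have hZn : ∀ x ∈ L, ∀ w ∈ Zs, x * w * x⁻¹ ∈ Zs := fun x hx w hw =>
    Subgroup.mem_subgroupOf.1 ((inferInstance : (Zs.subgroupOf L).Normal).conj_mem
      ⟨w, Subgroup.le_normalizer (hZK hw)⟩ (Subgroup.mem_subgroupOf.2 hw) ⟨x, hx⟩)
  obtain ⟨δ, hδ, hirr⟩ : ∃ δ : ℤ, (δ = 1 ∨ δ = -1) ∧ Cfsg.IsIrrCharacter G ((δ : ℂ) • F) := by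
    rcases norm_one_cases hF hF1 with h | h
    · exact ⟨1, Or.inl rfl, by simpa using h⟩
    · exact ⟨-1, Or.inr rfl, by simpa using h⟩
  obtain ⟨n, d, hn, hd, hdvd⟩ := value_congr K L Zs Subgroup.le_normalizer hodd hcop hTI hZK hZn hZc hirr hz hz1
    (fun w hw hw1 => by simp only [Pi.smul_apply, hval w hw hw1, hval z hz hz1])
  obtain ⟨t, ht⟩ := hdvd
  refine ⟨δ * t, ?_⟩
  simp only [Pi.smul_apply, smul_eq_mul, hval z hz hz1] at hn hd
  have h3 : (d : ℂ) - n = (Nat.card K : ℂ) * t := by exact_mod_cast ht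
  have hK0 : (Nat.card K : ℂ) ≠ 0 := Nat.cast_ne_zero.2 Nat.card_pos.ne'
  have hδ2 : (δ : ℂ) * δ = 1 := by rcases hδ with rfl | rfl <;> norm_num
  have h4 : ((m : ℤ) : ℂ) = (pa : ℂ) * ((δ : ℂ) * t) := by
    have h5 : (δ : ℂ) * ((m : ℂ) * Nat.card K / pa) = (Nat.card K : ℂ) * t := by
      rw [← h3, ← hd, ← hn]; ring
    have h6 : (m : ℂ) * Nat.card K / pa = (Nat.card K : ℂ) * ((δ : ℂ) * t) := by
      calc (m : ℂ) * Nat.card K / pa = (δ : ℂ) * δ * ((m : ℂ) * Nat.card K / pa) := by rw [hδ2, one_mul]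
        _ = (δ : ℂ) * ((δ : ℂ) * ((m : ℂ) * Nat.card K / pa)) := by ring
        _ = _ := by rw [h5]; ring
    rw [div_eq_iff hpa] at h6
    apply mul_left_cancel₀ hK0
    linear_combination h6
  exact_mod_cast h4

omit [Fintype ↥(Subgroup.normalizer (K : Set G))] in
/-- A central subgroup in the derived group, normalised by the local subgroup. -/
theorem exists_central {p : ℕ} [Fact p.Prime] (hp : IsPGroup p K) (hna : ¬ IsMulCommutative K) :
    ∃ W : Subgroup G, W ≠ ⊥ ∧ W ≤ ⁅K, K⁆ ∧ W ≤ K ∧ (∀ z ∈ W, ∀ k ∈ K, z * k = k * z) ∧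
      (W.subgroupOf L).Normal := by
  have hcle : ⁅K, K⁆ ≤ K := Subgroup.commutator_le.2 fun a ha b hb =>
    K.mul_mem (K.mul_mem (K.mul_mem ha hb) (K.inv_mem ha)) (K.inv_mem hb)
  refine ⟨⁅K, K⁆ ⊓ Subgroup.centralizer (K : Set G), ?_, inf_le_left, inf_le_left.trans hcle,
    fun z hz k hk => (Subgroup.mem_centralizer_iff.1 hz.2 k hk).symm, ⟨fun w hw x => ?_⟩⟩
  · have hne : commutator K ≠ ⊥ := by
      intro h
      refine hna ⟨⟨fun a b => ?_⟩⟩
      have hab : ⁅a, b⁆ ∈ commutator K := by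
        rw [commutator_def]; exact Subgroup.commutator_mem_commutator (Subgroup.mem_top a) (Subgroup.mem_top b)
      rw [h, Subgroup.mem_bot] at hab
      exact commutatorElement_eq_one_iff_commute.1 hab
    obtain ⟨⟨⟨w, hwK⟩, hw⟩, hw1⟩ :=
      Subgroup.ne_bot_iff_exists_ne_one.1 (CfsgLib.PReduced.inf_center_ne_bot hp hne)
    refine Subgroup.ne_bot_iff_exists_ne_one.2 ⟨⟨w, ?_, ?_⟩, fun h => hw1 (Subtype.ext (Subtype.ext (congrArg (fun (t : ↥(⁅K, K⁆ ⊓ Subgroup.centralizer (K : Set G))) => (t : G)) h)))⟩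
    · rw [← Subgroup.map_subtype_commutator]; exact ⟨⟨w, hwK⟩, hw.1, rfl⟩
    · exact Subgroup.mem_centralizer_iff.2 fun k hk => congrArg Subtype.val (Subgroup.mem_center_iff.1 hw.2 ⟨k, hk⟩)
  · rw [Subgroup.mem_subgroupOf] at hw ⊢
    have hx := Subgroup.mem_normalizer_iff.1 x.2
    have hKx : K.map (MulAut.conj (x : G)).toMonoidHom = K := by
      ext k
      constructor
      · rintro ⟨u, hu, rfl⟩; exact (hx u).1 hu
      · intro hk
        exact ⟨(x : G)⁻¹ * k * x, (hx _).2 (by simpa [mul_assoc] using hk), by simp [mul_assoc]⟩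
    refine ⟨?_, Subgroup.mem_centralizer_iff.2 fun k hk => ?_⟩
    · have h1 := Subgroup.mem_map_of_mem (MulAut.conj (x : G)).toMonoidHom hw.1
      rw [Subgroup.map_commutator, hKx] at h1
      simpa using h1
    · have hk' : (x : G)⁻¹ * k * x ∈ K := (hx _).2 (by simpa [mul_assoc] using hk)
      have h2 := Subgroup.mem_centralizer_iff.1 hw.2 _ hk'
      simp only [Subgroup.coe_mul, InvMemClass.coe_inv]
      calc k * ((x : G) * w * (x : G)⁻¹) = (x : G) * ((x : G)⁻¹ * k * x * w) * (x : G)⁻¹ := by group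
        _ = (x : G) * w * (x : G)⁻¹ * k := by rw [h2]; group

include hTI hC in
set_option maxHeartbeats 1000000 in
/-- Coherence for a non-abelian trivial-intersection `p`-subgroup with local subgroup of odd order. -/
theorem coherent_pgroup_odd (hlt : K < L) (hodd : Odd (Nat.card ↥L)) {p : ℕ} [Fact p.Prime] (hp2 : p ≠ 2)
    (hp : IsPGroup p K) (hna : ¬ IsMulCommutative K) :
    Cfsg.IsCoherent {χ : ↥L → ℂ | Cfsg.IsIrrCharacter ↥L χ ∧ Rel (K.subgroupOf L) χ}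
      ({1}ᶜ : Set ↥L) (fun α : ↥L → ℂ => Cfsg.indFun L α) := by
  classical
  obtain ⟨Ws, hW1, hWc, hWK, hWcomm, hWn⟩ := exists_central K hp hna
  haveI := hWn
  haveI : Fintype (Cfsg.IrrCharacter ↥L) := Fintype.ofFinite _
  have hC' := centralizer_le_in_normalizer K hC
  set K' := K.subgroupOf L with hK'
  set Z' := Ws.subgroupOf L with hZ'
  haveI := Fintype.ofFinite K'
  haveI : Fintype (Cfsg.IrrCharacter K') := Fintype.ofFinite _
  have hZK : Z' ≤ K' := fun x hx => Subgroup.mem_subgroupOf.2 (hWK (Subgroup.mem_subgroupOf.1 hx))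
  have hZc : ∀ z ∈ Z', ∀ k ∈ K', z * k = k * z := fun z hz k hk => Subtype.ext (hWcomm z hz k hk)
  have hZne : Z' ≠ ⊥ := by
    obtain ⟨⟨w, hw⟩, hw1⟩ := Subgroup.ne_bot_iff_exists_ne_one.1 hW1
    intro h
    refine hw1 (Subtype.ext ?_)
    show w = 1
    exact congrArg Subtype.val ((Subgroup.eq_bot_iff_forall _).1 h ⟨w, Subgroup.le_normalizer (hWK hw)⟩ (Subgroup.mem_subgroupOf.2 hw))
  have hpK : IsPGroup p K' := hp.of_equiv (Subgroup.subgroupOfEquivOfLe Subgroup.le_normalizer).symm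
  -- linear characters are trivial on `Z'`
  have hlin : ∀ χ : ↥L → ℂ, Cfsg.IsIrrCharacter _ χ → Rel K' χ → pdeg K' χ = 1 → ¬ Rel Z' χ := by
    intro χ hχ hr h1 hZr
    obtain ⟨-, θ, -, hθd, hθZ⟩ := top_facts K' hC' Z' hZK hZc hpK hχ hr
    obtain ⟨w, hw, hne⟩ := hθZ.2 hZr
    apply hne
    rw [h1] at hθd
    have hwc : w ∈ commutator K' := by
      have h2 : ((w : ↥L) : G) ∈ (commutator K').map ((Subgroup.normalizer (K : Set G)).subtype.comp K'.subtype) := by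
        have hmap : K'.map (Subgroup.normalizer (K : Set G)).subtype = K :=
          (Subgroup.subgroupOf_map_subtype _ _).trans (inf_eq_left.2 Subgroup.le_normalizer)
        rw [← Subgroup.map_map, Subgroup.map_subtype_commutator, Subgroup.map_commutator, hmap]
        exact hWc (Subgroup.mem_subgroupOf.1 (Subgroup.mem_subgroupOf.1 hw))
      obtain ⟨w', hw', e⟩ := h2
      rwa [Subtype.ext (Subtype.ext e) ] at hw'
    have h3 := Abelianization.commutator_subset_ker (linHomOf θ hθd).toHomUnits hwc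
    have h4 := congrArg (fun u : ℂˣ => (u : ℂ)) (MonoidHom.mem_ker.1 h3)
    simp only [MonoidHom.coe_toHomUnits, linHomOf_apply, Units.val_one] at h4
    rw [h4, apply_one (isCharacter_of_irr θ.2), hθd, Nat.cast_one]
  -- the three sets
  set SX := {χ : ↥L → ℂ | Cfsg.IsIrrCharacter _ χ ∧ Rel Z' χ} with hSX
  set SA := {χ : ↥L → ℂ | Cfsg.IsIrrCharacter _ χ ∧ Rel K' χ} with hSA
  set FA := (Finset.univ.filter fun χ : Cfsg.IrrCharacter ↥L => Rel K' (χ : ↥L → ℂ)).image Subtype.val with hFA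
  have hmemA : ∀ χ, χ ∈ FA ↔ Cfsg.IsIrrCharacter _ χ ∧ Rel K' χ := fun χ => by
    simp only [FA, Finset.mem_image, Finset.mem_filter, Finset.mem_univ, true_and]
    exact ⟨fun ⟨c, hc, he'⟩ => he' ▸ ⟨c.2, hc⟩, fun ⟨h1, h2⟩ => ⟨⟨χ, h1⟩, h2, rfl⟩⟩
  have hFAeq : SA = (↑FA : Set (↥L → ℂ)) := by ext χ; simp only [SA, Set.mem_ofPred_eq, Finset.mem_coe, hmemA]
  set FX := FA.filter fun χ => Rel Z' χ with hFX
  set FY := FA.filter fun χ => pdeg K' χ = 1 with hFY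
  have hXA : SX = (↑FX : Set (↥L → ℂ)) := by
    ext χ
    simp only [SX, FX, Set.mem_ofPred_eq, Finset.mem_coe, Finset.mem_filter, hmemA]
    exact ⟨fun h => ⟨⟨h.1, rel_mono K' Z' hZK h.2⟩, h.2⟩, fun h => ⟨h.1.1, h.2⟩⟩
  obtain ⟨hind, hind1⟩ := ind_isometry K hTI hC (S := SA) (fun χ h => h)
  have hXsub : SX ⊆ SA := fun χ h => ⟨h.1, rel_mono K' Z' hZK h.2⟩
  have hYsub : (↑FY : Set (↥L → ℂ)) ⊆ SA := fun χ h => (hmemA χ).1 (Finset.mem_filter.1 h).1
  obtain ⟨hXne, σ, hσ, hσag⟩ := coherent_top K' hC' Z' hZK hZc hodd hp2 hpK hZne _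
    (isometry_mono hind (zspanOn_mono hXsub _)) (fun α hα => hind1 α (zspanOn_mono hXsub _ hα))
  rw [← hSX] at hσ hσag hXne
  -- least degree in the upper layer
  have hFXne : FX.Nonempty := by
    obtain ⟨α, hα, hα0⟩ := hXne
    by_contra h
    rw [Finset.not_nonempty_iff_eq_empty] at h
    refine hα0 ?_
    have := hα.1
    rw [hXA, h, Cfsg.zspan, Finset.coe_empty, Submodule.span_empty] at this
    simpa using this
  obtain ⟨ψ, hψ, hmin⟩ := Finset.exists_min_image FX (fun χ => pdeg K' χ) hFXne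
  have hXirr : ∀ χ ∈ FX, Cfsg.IsIrrCharacter _ χ ∧ Rel K' χ ∧ Rel Z' χ := fun χ h =>
    ⟨((hmemA χ).1 (Finset.mem_filter.1 h).1).1, ((hmemA χ).1 (Finset.mem_filter.1 h).1).2, (Finset.mem_filter.1 h).2⟩
  -- a linear character
  haveI : Nontrivial K' := (Subgroup.nontrivial_iff_ne_bot _).2 fun h => hZne (le_bot_iff.1 (h ▸ hZK))
  haveI : Group.IsNilpotent K' := hpK.isNilpotent
  obtain ⟨β, hβ1, hβd⟩ := exists_linear_ne_one ↥K'
  set η₁ := Cfsg.indFun K' (β : K' → ℂ) with hη₁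
  have hη₁A := induced_irr K' hC' β.2 hβ1
  have hη₁Y : η₁ ∈ FY := Finset.mem_filter.2 ⟨(hmemA _).2 hη₁A, by rw [hη₁, pdeg_induced K' hC' β.2 hβ1, hβd]⟩
  have hYirr : ∀ χ ∈ FY, Cfsg.IsIrrCharacter _ χ ∧ Rel K' χ ∧ pdeg K' χ = 1 := fun χ h =>
    ⟨((hmemA χ).1 (Finset.mem_filter.1 h).1).1, ((hmemA χ).1 (Finset.mem_filter.1 h).1).2, (Finset.mem_filter.1 h).2⟩
  have hη₁self : Cfsg.classInner η₁ η₁ = 1 := classInner_self hη₁A.1
  obtain ⟨c1, c2, c3, c4⟩ := conj_mem_rel K' hC' hodd hη₁A.1 hη₁A.2 K' hη₁A.2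
  have hη₂Y : Cfsg.conjFun η₁ ∈ FY :=
    Finset.mem_filter.2 ⟨(hmemA _).2 ⟨c1, c3⟩, c4.trans (Finset.mem_filter.1 hη₁Y).2⟩
  have hY2 : 1 < FY.card := Finset.one_lt_card.2 ⟨_, hη₂Y, _, hη₁Y, c2⟩
  have hXY : Disjoint SX (↑FY : Set (↥L → ℂ)) := Set.disjoint_left.2 fun χ hx hy => by
    obtain ⟨h1, h2, h3⟩ := hYirr χ hy
    exact hlin χ h1 h2 h3 hx.2
  set e := K'.index
  have he0 : 0 < e := Nat.pos_of_ne_zero Subgroup.index_ne_zero_of_finite
  have hone : ∀ χ ∈ FA, χ 1 = ((e * pdeg K' χ : ℕ) : ℂ) := fun χ h =>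
    (pdeg_spec K' hC' ((hmemA χ).1 h).1 ((hmemA χ).1 h).2).2.2.1
  have hone' : ∀ χ ∈ FY, χ 1 = (e : ℂ) := fun χ h => by
    rw [hone χ (Finset.mem_filter.1 h).1, (hYirr χ h).2.2, mul_one]
  obtain ⟨-, τ₀, hτ₀, hτ₀ag⟩ := coherent_equal FY (fun χ h => (hYirr χ h).1) hY2 e hone' _
    (isometry_mono hind (zspanOn_mono hYsub _)) (fun α hα => hind1 α (zspanOn_mono hYsub _ hα))
  obtain ⟨b1, b2, b3, b4⟩ := conj_mem_rel K' hC' hodd (hXirr ψ hψ).1 (hXirr ψ hψ).2.1 Z' (hXirr ψ hψ).2.2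
  have hψX : ψ ∈ SX := ⟨(hXirr ψ hψ).1, (hXirr ψ hψ).2.2⟩
  have hψ'X : Cfsg.conjFun ψ ∈ SX := ⟨b1, b3⟩
  obtain ⟨horthXY, -⟩ := Cfsg.Agent.S1531.result L SA SX (↑FY) (fun χ h => h.1) hXsub hYsub hXY
    ⟨_, hψ'X, _, hψX, b2⟩ ⟨_, hη₂Y, _, hη₁Y, c2⟩ _ hind hind1 σ τ₀ hσ hσag hτ₀ hτ₀ag
  have hσ' : Cfsg.IsLinearIsometryOn ((Submodule.span ℤ SX : Submodule ℤ (↥L → ℂ)) : Set (↥L → ℂ)) σ := hσ
  have hτ₀' : Cfsg.IsLinearIsometryOn ((Submodule.span ℤ (↑FY : Set (↥L → ℂ)) : Submodule ℤ (↥L → ℂ)) : Set (↥L → ℂ)) τ₀ := hτ₀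
  set pa := pdeg K' ψ with hpa
  obtain ⟨⟨a, hpow⟩, -⟩ := top_facts K' hC' Z' hZK hZc hpK (hXirr ψ hψ).1 (hXirr ψ hψ).2.1
  have hpa0 : 0 < pa := by rw [hpa, hpow]; exact pow_pos (Fact.out : p.Prime).pos _
  set α₀ : ↥L → ℂ := ψ - (pa : ℤ) • η₁ with hα₀
  have hψspan : ψ ∈ Submodule.span ℤ SA := Submodule.subset_span (hXsub hψX)
  have hα₀mem : α₀ ∈ Cfsg.zspanOn SA ({1}ᶜ : Set ↥L) :=
    mem_on_one.2 ⟨sub_mem (S := Submodule ℤ (↥L → ℂ)) hψspan
      (Submodule.smul_mem _ _ (Submodule.subset_span (hYsub hη₁Y))),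
      by simp only [α₀, Pi.sub_apply, ← Int.cast_smul_eq_zsmul ℂ, Pi.smul_apply, smul_eq_mul, hone' η₁ hη₁Y, hone ψ (Finset.mem_filter.1 hψ).1]
         push_cast; rw [← hpa]; ring⟩
  set α := Cfsg.indFun L α₀ with hαdef
  have hαgen : Cfsg.IsGeneralizedCharacter G α := hind.2.2.2 _ hα₀mem
  -- the relations in the upper layer
  have hXd : ∀ χ ∈ FX, (pa : ℤ) • χ - (pdeg K' χ : ℤ) • ψ ∈ Cfsg.zspanOn SX ({1}ᶜ : Set ↥L) := fun χ hχ =>
    mem_on_one.2 ⟨sub_mem (S := Submodule ℤ (↥L → ℂ))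
      (Submodule.smul_mem _ _ (Submodule.subset_span ⟨(hXirr χ hχ).1, (hXirr χ hχ).2.2⟩))
      (Submodule.smul_mem _ _ (Submodule.subset_span hψX)),
      by simp only [Pi.sub_apply, ← Int.cast_smul_eq_zsmul ℂ, Pi.smul_apply, smul_eq_mul, hone χ (Finset.mem_filter.1 hχ).1, hone ψ (Finset.mem_filter.1 hψ).1]
         push_cast; rw [← hpa]; ring⟩
  have hσd : ∀ χ ∈ FX, Cfsg.indFun L ((pa : ℤ) • χ - (pdeg K' χ : ℤ) • ψ) = (pa : ℤ) • σ χ - (pdeg K' χ : ℤ) • σ ψ := by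
    intro χ hχ
    have h1 : χ ∈ Submodule.span ℤ SX := Submodule.subset_span ⟨(hXirr χ hχ).1, (hXirr χ hχ).2.2⟩
    have h2 := hσag _ (hXd χ hχ)
    beta_reduce at h2
    rw [← h2, iso_sub hσ' (Submodule.smul_mem _ _ h1) (Submodule.smul_mem _ _ (Submodule.subset_span hψX)),
      iso_zsmul hσ' h1, iso_zsmul hσ' (Submodule.subset_span hψX)]
  have hgX : ∀ χ ∈ SX, Cfsg.IsGeneralizedCharacter G (σ χ) := fun χ h => hσ.2.2.2 χ (Submodule.subset_span h)
  have hgY : ∀ η ∈ FY, Cfsg.IsGeneralizedCharacter G (τ₀ η) := fun η h => hτ₀.2.2.2 η (Submodule.subset_span h)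
  have hint : ∀ χ : ↥L → ℂ, ∃ s : ℤ, χ ∈ SX → Cfsg.classInner α (σ χ) = s := fun χ => by
    by_cases h : χ ∈ SX
    · obtain ⟨s, hs⟩ := gen_inner_gen_int hαgen (hgX χ h)
      exact ⟨s, fun _ => hs⟩
    · exact ⟨0, fun h' => absurd h' h⟩
  choose s hs using hint
  have hsX : ∀ χ ∈ FX, χ ∈ SX := fun χ h => ⟨(hXirr χ h).1, (hXirr χ h).2.2⟩
  have horth : ∀ χ φ : ↥L → ℂ, χ ∈ SA → φ ∈ SA → χ ≠ φ → Cfsg.classInner χ φ = 0 := fun χ φ h h' hne =>
    classInner_ne h.1 h'.1 hne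
  have hψη : ∀ η ∈ FY, ψ ≠ η := fun η h e => Set.disjoint_left.1 hXY hψX (e ▸ h)
  have hrelX : ∀ χ ∈ FX, χ ≠ ψ → (pa : ℤ) * s χ = (pdeg K' χ : ℤ) * (s ψ - 1) := by
    intro χ hχ hne
    have h1 := hind.2.2.1 _ hα₀mem _ (zspanOn_mono hXsub _ (hXd χ hχ))
    beta_reduce at h1
    rw [← hαdef, hσd χ hχ] at h1
    simp only [α₀, CfsgLib.Exceptional.classInner_sub_left, CfsgLib.Exceptional.classInner_sub_right,
      classInner_zsmul_left, classInner_zsmul_right, hs χ (hsX χ hχ), hs ψ hψX,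
      classInner_self (hXirr ψ hψ).1, horth ψ χ (hXsub hψX) (hXsub (hsX χ hχ)) hne.symm,
      horth η₁ χ (hYsub hη₁Y) (hXsub (hsX χ hχ)) (fun e => Set.disjoint_left.1 hXY (hsX χ hχ) (e ▸ hη₁Y)),
      horth η₁ ψ (hYsub hη₁Y) (hXsub hψX) (hψη _ hη₁Y).symm] at h1
    have h2 : (((pa : ℤ) * s χ : ℤ) : ℂ) = (((pdeg K' χ : ℤ) * (s ψ - 1) : ℤ) : ℂ) := by
      push_cast at h1 ⊢
      linear_combination h1
    exact_mod_cast h2
  -- the lower layer: coefficients divisible by `pa`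
  have hYm : ∀ η : ↥L → ℂ, ∃ m : ℤ, η ∈ FY → Cfsg.classInner α (τ₀ η) = (pa : ℂ) * m := fun η => by
    by_cases h : η ∈ FY
    swap
    · exact ⟨0, fun h' => absurd h' h⟩
    have hn1 : Cfsg.classInner (τ₀ η) (τ₀ η) = 1 := by
      rw [hτ₀.2.2.1 η (Submodule.subset_span h) η (Submodule.subset_span h), classInner_self (hYirr η h).1]
    have hF := gen_isClassFunction (hgY η h)
    obtain ⟨m, hm, hdvd⟩ := coeff_dvd K hTI hC Ws hodd hW1 hWK hWcomm (hgY η h) hn1 (hXirr ψ hψ).1 (hXirr ψ hψ).2.2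
      (fun χ hχ hr => by
        have hχF : χ ∈ FX := Finset.mem_filter.2 ⟨(hmemA χ).2 ⟨hχ, rel_mono K' Z' hZK hr⟩, hr⟩
        have h0 : Cfsg.classInner (τ₀ η) (Cfsg.indFun L ((pa : ℤ) • χ - (pdeg K' χ : ℤ) • ψ)) = 0 := by
          rw [hσd χ hχF, CfsgLib.Exceptional.classInner_sub_right, classInner_zsmul_right, classInner_zsmul_right,
            classInner_comm (σ χ), classInner_comm (σ ψ), horthXY χ ⟨hχ, hr⟩ η h, horthXY ψ hψX η h, map_zero]
          ring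
        rw [classInner_indFun' L _ hF, CfsgLib.Exceptional.classInner_sub_right, classInner_zsmul_right,
          classInner_zsmul_right] at h0
        rw [hone χ (Finset.mem_filter.1 hχF).1, hone ψ (Finset.mem_filter.1 hψ).1]
        push_cast at h0 ⊢
        rw [← hpa]
        linear_combination (e : ℂ) * h0)
    obtain ⟨w, hw⟩ := hdvd
    obtain ⟨u, hu⟩ := gen_inner_int (G := ↥L) (θ := fun x : ↥L => τ₀ η x)
      (by obtain ⟨A, B, hA, hB, e'⟩ := hgY η h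
          rw [e']
          exact ⟨_, _, isCharacter_restrict hA _, isCharacter_restrict hB _, rfl⟩) ⟨η₁, hη₁A.1⟩
    refine ⟨w - u, fun _ => ?_⟩
    rw [hαdef, classInner_indFun L _ hF, CfsgLib.Exceptional.classInner_sub_left, classInner_zsmul_left,
      classInner_comm (fun x : ↥L => τ₀ η x) ψ, classInner_comm (fun x : ↥L => τ₀ η x) η₁, hm, hu, hw]
    simp only [map_intCast]
    push_cast
    rw [← hpa]
    ring
  choose m hm using hYm
  have hrelY : ∀ η ∈ FY, η ≠ η₁ → m η = m η₁ + 1 := by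
    intro η hη hne
    have hd : η - η₁ ∈ Cfsg.zspanOn (↑FY : Set (↥L → ℂ)) ({1}ᶜ : Set ↥L) :=
      mem_on_one.2 ⟨sub_mem (S := Submodule ℤ (↥L → ℂ)) (Submodule.subset_span hη) (Submodule.subset_span hη₁Y),
        by rw [Pi.sub_apply, hone' η hη, hone' η₁ hη₁Y, sub_self]⟩
    have h1 := hind.2.2.1 _ hα₀mem _ (zspanOn_mono hYsub _ hd)
    have h0 := hτ₀ag _ hd
    beta_reduce at h1 h0
    rw [← hαdef, ← h0, iso_sub hτ₀' (Submodule.subset_span hη) (Submodule.subset_span hη₁Y)] at h1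
    simp only [α₀, CfsgLib.Exceptional.classInner_sub_left, CfsgLib.Exceptional.classInner_sub_right,
      classInner_zsmul_left, hm η hη, hm η₁ hη₁Y, hη₁self,
      horth ψ η (hXsub hψX) (hYsub hη) (hψη η hη), horth ψ η₁ (hXsub hψX) (hYsub hη₁Y) (hψη _ hη₁Y),
      horth η₁ η (hYsub hη₁Y) (hYsub hη) hne.symm] at h1
    have h2 : (((pa : ℤ) * m η : ℤ) : ℂ) = (((pa : ℤ) * (m η₁ + 1) : ℤ) : ℂ) := by
      push_cast at h1 ⊢
      linear_combination h1
    exact mul_left_cancel₀ (by exact_mod_cast hpa0.ne' : (pa : ℤ) ≠ 0) (by exact_mod_cast h2)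
  -- the norm
  have hdisj : Disjoint FX FY := Finset.disjoint_left.2 fun χ hx hy => Set.disjoint_left.1 hXY (hsX χ hx) hy
  let f : (↥L → ℂ) → (G → ℂ) := fun χ => if χ ∈ FX then σ χ else τ₀ χ
  let y : (↥L → ℂ) → ℤ := fun χ => if χ ∈ FX then s χ else (pa : ℤ) * m χ
  have hYnX : ∀ η ∈ FY, η ∉ FX := fun η h h' => Finset.disjoint_left.1 hdisj h' h
  have hbes := bessel (FX ∪ FY) f (fun _ => 1) (fun χ => (y χ : ℝ)) (fun _ _ => one_pos)
    (fun i hi j hj hne => by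
      rcases Finset.mem_union.1 hi with hi | hi <;> rcases Finset.mem_union.1 hj with hj | hj
      · simp only [f, if_pos hi, if_pos hj]
        rw [hσ.2.2.1 i (Submodule.subset_span (hsX i hi)) j (Submodule.subset_span (hsX j hj))]
        exact classInner_ne (hXirr i hi).1 (hXirr j hj).1 hne
      · simp only [f, if_pos hi, if_neg (hYnX j hj)]
        exact horthXY i (hsX i hi) j hj
      · simp only [f, if_neg (hYnX i hi), if_pos hj]
        rw [classInner_comm, horthXY j (hsX j hj) i hi, map_zero]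
      · simp only [f, if_neg (hYnX i hi), if_neg (hYnX j hj)]
        rw [hτ₀.2.2.1 i (Submodule.subset_span hi) j (Submodule.subset_span hj)]
        exact classInner_ne (hYirr i hi).1 (hYirr j hj).1 hne)
    (fun i hi => by
      rcases Finset.mem_union.1 hi with hi | hi
      · simp only [f, if_pos hi]
        rw [hσ.2.2.1 i (Submodule.subset_span (hsX i hi)) i (Submodule.subset_span (hsX i hi)),
          classInner_self (hXirr i hi).1, Complex.ofReal_one]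
      · simp only [f, if_neg (hYnX i hi)]
        rw [hτ₀.2.2.1 i (Submodule.subset_span hi) i (Submodule.subset_span hi),
          classInner_self (hYirr i hi).1, Complex.ofReal_one])
    α (fun i hi => by
      rcases Finset.mem_union.1 hi with hi | hi
      · simp only [f, y, if_pos hi]; rw [hs i (hsX i hi), Complex.ofReal_intCast]
      · simp only [f, y, if_neg (hYnX i hi)]; rw [hm i hi, Complex.ofReal_intCast]; push_cast; ring)
  have hαn : Cfsg.classInner α α = ((1 + (pa : ℤ) * pa : ℤ) : ℂ) := by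
    rw [hαdef, hind.2.2.1 _ hα₀mem _ hα₀mem]
    simp only [α₀, CfsgLib.Exceptional.classInner_sub_left, CfsgLib.Exceptional.classInner_sub_right,
      classInner_zsmul_left, classInner_zsmul_right, classInner_self (hXirr ψ hψ).1, hη₁self,
      horth ψ η₁ (hXsub hψX) (hYsub hη₁Y) (hψη _ hη₁Y), horth η₁ ψ (hYsub hη₁Y) (hXsub hψX) (hψη _ hη₁Y).symm]
    push_cast; ring
  simp only [div_one, hαn, Complex.intCast_re] at hbes
  have hsplit : ∑ χ ∈ FX ∪ FY, y χ ^ 2 = ∑ χ ∈ FX, s χ ^ 2 + (pa : ℤ) ^ 2 * ∑ η ∈ FY, m η ^ 2 := by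
    rw [Finset.sum_union hdisj, Finset.mul_sum]
    congr 1
    · exact Finset.sum_congr rfl fun χ h => by simp only [y, if_pos h]
    · exact Finset.sum_congr rfl fun χ h => by simp only [y, if_neg (hYnX χ h), mul_pow]
  have hle : ∑ χ ∈ FX, s χ ^ 2 + (pa : ℤ) ^ 2 * ∑ η ∈ FY, m η ^ 2 ≤ 1 + (pa : ℤ) * pa := by
    rw [← hsplit]; exact_mod_cast hbes.1
  have hX1 : 1 ≤ ∑ χ ∈ FX, s χ ^ 2 := by
    have hψ'F : Cfsg.conjFun ψ ∈ FX := by
      refine Finset.mem_filter.2 ⟨(hmemA _).2 ⟨b1, rel_mono K' Z' hZK b3⟩, b3⟩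
    by_cases h : s ψ = 0
    · have h' := hrelX _ hψ'F b2
      rw [h, b4] at h'
      have : s (Cfsg.conjFun ψ) = -1 := mul_left_cancel₀ (by exact_mod_cast hpa0.ne' : (pa : ℤ) ≠ 0) (by linarith)
      refine le_trans ?_ (Finset.single_le_sum (fun χ _ => sq_nonneg (s χ)) hψ'F)
      rw [this]; norm_num
    · refine le_trans ?_ (Finset.single_le_sum (fun χ _ => sq_nonneg (s χ)) hψ)
      have : 0 < s ψ ^ 2 := by positivity
      omega
  have hYsum : ∑ η ∈ FY, m η ^ 2 = m η₁ ^ 2 + ((FY.card : ℤ) - 1) * (m η₁ + 1) ^ 2 := by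
    rw [← Finset.add_sum_erase _ _ hη₁Y, Finset.sum_congr rfl (g := fun _ => (m η₁ + 1) ^ 2) (fun η h => by
      rw [hrelY η (Finset.mem_of_mem_erase h) (Finset.ne_of_mem_erase h)]), Finset.sum_const,
      Finset.card_erase_of_mem hη₁Y, nsmul_eq_mul, Nat.cast_sub (by omega : 1 ≤ FY.card), Nat.cast_one]
  have hpz : (1 : ℤ) ≤ (pa : ℤ) := by exact_mod_cast hpa0
  have hY1 : ∑ η ∈ FY, m η ^ 2 ≤ 1 := by
    have h1 : (pa : ℤ) ^ 2 * ∑ η ∈ FY, m η ^ 2 ≤ (pa : ℤ) ^ 2 * 1 := by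
      rw [mul_one, pow_two]
      rw [pow_two] at hle
      linarith
    exact le_of_mul_le_mul_left h1 (by positivity)
  have hq : (2 : ℤ) ≤ (FY.card : ℤ) := by exact_mod_cast hY2
  rw [hYsum] at hY1
  have hm1 : m η₁ = -1 ∨ (m η₁ = 0 ∧ FY.card = 2) := by
    have h0 : 0 ≤ (m η₁ + 1) ^ 2 := sq_nonneg _
    have h1 : m η₁ ^ 2 + (m η₁ + 1) ^ 2 ≤ 1 := by nlinarith
    have h2 : m η₁ = -1 ∨ m η₁ = 0 := by
      by_contra hh
      push Not at hh
      rcases (by omega : m η₁ ≤ -2 ∨ 1 ≤ m η₁) with h | h <;> nlinarith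
    rcases h2 with h | h
    · exact Or.inl h
    · refine Or.inr ⟨h, ?_⟩
      rw [h] at hY1
      norm_num at hY1
      omega
  have hY1' : m η₁ ^ 2 + ((FY.card : ℤ) - 1) * (m η₁ + 1) ^ 2 = 1 := by
    rcases hm1 with h | ⟨h, hc⟩
    · rw [h]; ring
    · rw [h, hc]; norm_num
  rw [hYsum, hY1', mul_one, ← pow_two] at hle
  have hXle : ∑ χ ∈ FX, s χ ^ 2 = 1 := le_antisymm (by linarith) hX1
  have hαeq : α = ∑ χ ∈ FX, ((s χ : ℤ) : ℂ) • σ χ + ∑ η ∈ FY, (((pa : ℤ) * m η : ℤ) : ℂ) • τ₀ η := by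
    rw [hbes.2 (by
      have h9 : (1 + (pa : ℤ) * pa) ≤ ∑ χ ∈ FX ∪ FY, y χ ^ 2 := by rw [hsplit, hXle, hYsum, hY1', pow_two]; linarith
      exact_mod_cast h9), Finset.sum_union hdisj]
    congr 1
    · exact Finset.sum_congr rfl fun χ h => by simp only [f, y, if_pos h, Complex.ofReal_intCast]
    · exact Finset.sum_congr rfl fun χ h => by simp only [f, y, if_neg (hYnX χ h), Complex.ofReal_intCast]
  -- the first part is a single character
  obtain ⟨σ₁, hσ₁, hσ₁ag, hXpart⟩ : ∃ σ₁ : (↥L → ℂ) → (G → ℂ), Cfsg.IsLinearIsometryOn (Cfsg.zspan SX) σ₁ ∧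
      (∀ θ ∈ Cfsg.zspanOn SX ({1}ᶜ : Set ↥L), σ₁ θ = Cfsg.indFun L θ) ∧
      ∑ χ ∈ FX, ((s χ : ℤ) : ℂ) • σ χ = σ₁ ψ := by
    by_cases h : s ψ = 0
    · have hothers : ∀ χ ∈ FX, χ ≠ ψ → s χ < 0 := fun χ hχ hne => by
        have h' := hrelX χ hχ hne
        rw [h] at h'
        have : 0 < (pdeg K' χ : ℤ) := by
          exact_mod_cast (pdeg_spec K' hC' (hXirr χ hχ).1 (hXirr χ hχ).2.1).1
        by_contra hh
        nlinarith [mul_nonneg (by linarith : (0 : ℤ) ≤ pa) (not_lt.1 hh)]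
      have hψ'F : Cfsg.conjFun ψ ∈ FX :=
        Finset.mem_filter.2 ⟨(hmemA _).2 ⟨b1, rel_mono K' Z' hZK b3⟩, b3⟩
      have hs' : s (Cfsg.conjFun ψ) = -1 := by
        have h' := hrelX _ hψ'F b2
        rw [h, b4] at h'
        exact mul_left_cancel₀ (by exact_mod_cast hpa0.ne' : (pa : ℤ) ≠ 0) (by linarith)
      have honly : FX = {ψ, Cfsg.conjFun ψ} := by
        refine Finset.Subset.antisymm (fun χ hχ => ?_) (Finset.insert_subset hψ (Finset.singleton_subset_iff.2 hψ'F))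
        by_contra hne
        simp only [Finset.mem_insert, Finset.mem_singleton, not_or] at hne
        have h5 := hothers χ hχ hne.1
        have h6 : s (Cfsg.conjFun ψ) ^ 2 + s χ ^ 2 ≤ ∑ ξ ∈ FX, s ξ ^ 2 := by
          rw [← Finset.sum_pair (f := fun ξ => s ξ ^ 2) (Ne.symm hne.2)]
          exact Finset.sum_le_sum_of_subset_of_nonneg (Finset.insert_subset hψ'F (Finset.singleton_subset_iff.2 hχ))
            (fun ξ _ _ => sq_nonneg _)
        rw [hXle, hs'] at h6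
        nlinarith
      obtain ⟨σ₁, h1, h2, h3⟩ := swap_pair FX (fun χ h => (hXirr χ h).1) (by rw [honly, Finset.card_pair b2.symm])
        hψ hψ'F b2.symm (by rw [conjFun_apply_one (isCharacter_of_irr (hXirr ψ hψ).1)]) σ _
        (by rw [← hXA]; exact hσ) (by rw [← hXA]; exact hσag)
      refine ⟨σ₁, by rw [hXA]; exact h1, by rw [hXA]; exact h2, ?_⟩
      rw [h3, honly, Finset.sum_pair b2.symm, h, hs', Int.cast_zero, zero_smul, zero_add, Int.cast_neg, Int.cast_one,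
        neg_one_smul]
    · have hother : ∀ χ ∈ FX, χ ≠ ψ → s χ = 0 := fun χ hχ hne => by
        by_contra hne0
        have h6 : s ψ ^ 2 + s χ ^ 2 ≤ ∑ ξ ∈ FX, s ξ ^ 2 := by
          rw [← Finset.sum_pair (f := fun ξ => s ξ ^ 2) (Ne.symm hne)]
          exact Finset.sum_le_sum_of_subset_of_nonneg (Finset.insert_subset hψ (Finset.singleton_subset_iff.2 hχ))
            (fun ξ _ _ => sq_nonneg _)
        have : 0 < s ψ ^ 2 := by positivity
        have : 0 < s χ ^ 2 := by positivity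
        omega
      have hψ'F : Cfsg.conjFun ψ ∈ FX :=
        Finset.mem_filter.2 ⟨(hmemA _).2 ⟨b1, rel_mono K' Z' hZK b3⟩, b3⟩
      have h' := hrelX _ hψ'F b2
      rw [hother _ hψ'F b2, b4, mul_zero] at h'
      have hs1 : s ψ = 1 := by
        have := (mul_eq_zero.1 h'.symm).resolve_left (by exact_mod_cast hpa0.ne')
        omega
      refine ⟨σ, hσ, hσag, ?_⟩
      rw [Finset.sum_eq_single ψ (fun χ hχ hne => by rw [hother χ hχ hne, Int.cast_zero, zero_smul])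
        (fun h => absurd hψ h), hs1, Int.cast_one, one_smul]
  obtain ⟨τ₁, hτ₁, hτ₁ag, hYpart⟩ : ∃ τ₁ : (↥L → ℂ) → (G → ℂ),
      Cfsg.IsLinearIsometryOn (Cfsg.zspan (↑FY : Set (↥L → ℂ))) τ₁ ∧
      (∀ θ ∈ Cfsg.zspanOn (↑FY : Set (↥L → ℂ)) ({1}ᶜ : Set ↥L), τ₁ θ = Cfsg.indFun L θ) ∧
      ∑ η ∈ FY, (((pa : ℤ) * m η : ℤ) : ℂ) • τ₀ η = -(((pa : ℤ) : ℂ) • τ₁ η₁) := by
    rcases hm1 with h | ⟨h, hc⟩
    · refine ⟨τ₀, hτ₀, hτ₀ag, ?_⟩
      rw [Finset.sum_eq_single η₁ (fun η hη hne => by rw [hrelY η hη hne, h]; simp) (fun h' => absurd hη₁Y h'), h]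
      push_cast; module
    · obtain ⟨τ₁, h1, h2, h3⟩ := swap_pair FY (fun χ h => (hYirr χ h).1) hc hη₁Y hη₂Y c2.symm
        (by rw [hone' _ hη₁Y, hone' _ hη₂Y]) τ₀ _ hτ₀ hτ₀ag
      refine ⟨τ₁, h1, h2, ?_⟩
      have honly : FY = {η₁, Cfsg.conjFun η₁} := (Finset.eq_of_subset_of_card_le
        (Finset.insert_subset hη₁Y (Finset.singleton_subset_iff.2 hη₂Y)) (by rw [hc, Finset.card_pair c2.symm])).symm
      rw [h3, honly, Finset.sum_pair c2.symm, h, hrelY _ hη₂Y c2, h]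
      push_cast; module
  -- the union of the two layers
  have hlink : Cfsg.indFun L (ψ 1 • η₁ - η₁ 1 • ψ) = ψ 1 • τ₁ η₁ - η₁ 1 • σ₁ ψ := by
    have e1 : ψ 1 • η₁ - η₁ 1 • ψ = (-(e : ℂ)) • α₀ := by
      rw [hone' η₁ hη₁Y, hone ψ (Finset.mem_filter.1 hψ).1, ← hpa]
      simp only [α₀, ← Int.cast_smul_eq_zsmul ℂ]
      push_cast; module
    rw [e1, CfsgLib.BrauerInd.indFun_smul, ← hαdef, hαeq, hXpart, hYpart, hone' η₁ hη₁Y,
      hone ψ (Finset.mem_filter.1 hψ).1, ← hpa]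
    push_cast; module
  obtain ⟨-, hunion⟩ := Cfsg.Agent.S1531.result L SA SX (↑FY) (fun χ h => h.1) hXsub hYsub hXY
    ⟨_, hψ'X, _, hψX, b2⟩ ⟨_, hη₂Y, _, hη₁Y, c2⟩ _ hind hind1 σ₁ τ₁ hσ₁ hσ₁ag hτ₁ hτ₁ag
  have hcohU := hunion ⟨ψ, hψX, η₁, hη₁Y, hlink⟩
  -- the remaining characters
  rw [hXA, ← Finset.coe_union] at hcohU
  rw [hFAeq]
  rw [hFAeq] at hind hind1
  refine coherent_extend FA (FX ∪ FY) (Finset.union_subset (Finset.filter_subset _ _) (Finset.filter_subset _ _))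
    (fun χ h => ((hmemA χ).1 h).1) Cfsg.charDegree
    (fun χ h => apply_one (isCharacter_of_irr ((hmemA χ).1 h).1)) _ hind hind1 hcohU η₁
    (Finset.mem_union_right _ hη₁Y) ?_
  intro χ hχ hχU
  obtain ⟨hχirr, hχr⟩ := (hmemA χ).1 hχ
  have hdeg : ∀ ξ ∈ FA, Cfsg.charDegree ξ = e * pdeg K' ξ := fun ξ h =>
    (pdeg_spec K' hC' ((hmemA ξ).1 h).1 ((hmemA ξ).1 h).2).2.2.2
  have hη₁d : Cfsg.charDegree η₁ = e := by
    rw [hdeg _ (Finset.mem_filter.1 hη₁Y).1, (hYirr _ hη₁Y).2.2, mul_one]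
  rw [hη₁d, hdeg χ hχ]
  refine ⟨dvd_mul_right _ _, ?_⟩
  have hχZ : ¬ Rel Z' χ := fun h => hχU (Finset.mem_union_left _ (Finset.mem_filter.2 ⟨hχ, h⟩))
  have hχ1 : pdeg K' χ ≠ 1 := fun h => hχU (Finset.mem_union_right _ (Finset.mem_filter.2 ⟨hχ, h⟩))
  obtain ⟨⟨i, hi⟩, θ, -, hθd, -⟩ := top_facts K' hC' Z' hZK hZc hpK hχirr hχr
  set Q := ∑ ξ ∈ Finset.univ.filter (fun ξ : Cfsg.IrrCharacter ↥L => Rel Z' (ξ : ↥L → ℂ)),
    (if True then pdeg K' (ξ : ↥L → ℂ) ^ 2 else 0) with hQdef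
  have hQ := sum_pdeg_sq_top K' hC' Z' hZK hZc (fun _ => True)
  simp only [and_true] at hQ
  rw [sum_nontrivial_sq _ (subgroupOf_le_center K' Z' hZc)] at hQ
  set W := Z'.subgroupOf K'
  have hW2 : 1 < Nat.card W := by
    haveI : Nontrivial W := by
      rw [Subgroup.nontrivial_iff_ne_bot]
      intro hb
      refine hZne ((Subgroup.eq_bot_iff_forall _).2 fun z hz => ?_)
      exact congrArg Subtype.val ((Subgroup.eq_bot_iff_forall _).1 hb ⟨z, hZK hz⟩ (Subgroup.mem_subgroupOf.2 hz))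
    exact Finite.one_lt_card
  have hcop : e.Coprime W.index :=
    ((coprime_index K' hC').coprime_dvd_left W.index_dvd_card).symm
  have hediv : e ∣ Nat.card W - 1 := hcop.dvd_of_dvd_mul_left ⟨_, hQ.symm⟩
  have hWe : e ≤ Nat.card W - 1 := Nat.le_of_dvd (by omega) hediv
  have hsq : pdeg K' χ ^ 2 ≤ W.index := by
    have h := sq_degree_mul_le W (subgroupOf_le_center K' Z' hZc) θ
    rw [hθd, ← Subgroup.card_mul_index W, mul_comm (Nat.card W)] at h
    exact Nat.le_of_mul_le_mul_right h Nat.card_pos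
  have hpj : 3 ≤ pdeg K' χ := by
    rw [hi]
    rcases i with _ | i
    · exact absurd hi (by simpa using hχ1)
    · calc 3 ≤ p := by have := (Fact.out : p.Prime).two_le; omega
        _ ≤ p ^ (i + 1) := Nat.le_self_pow (Nat.succ_ne_zero i) p
  calc 2 * e * (e * pdeg K' χ) = e * (2 * pdeg K' χ * e) := by ring
    _ < e * (e * Q) := by
        refine Nat.mul_lt_mul_of_pos_left ?_ he0
        rw [hQdef]
        simp only [if_true] at hQ ⊢
        rw [hQ]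
        calc 2 * pdeg K' χ * e < pdeg K' χ ^ 2 * e := Nat.mul_lt_mul_of_pos_right (by nlinarith) he0
          _ ≤ W.index * (Nat.card W - 1) := Nat.mul_le_mul hsq hWe
    _ = ∑ ξ ∈ FX, Cfsg.charDegree ξ ^ 2 := by
        rw [hQdef, hFX, hFA, Finset.filter_image, Finset.sum_image Subtype.val_injective.injOn, Finset.filter_filter,
          ← mul_assoc, Finset.mul_sum]
        refine Finset.sum_congr (Finset.filter_congr fun ξ _ => ⟨fun h => ⟨rel_mono K' Z' hZK h, h⟩, fun h => h.2⟩)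
          fun ξ hξ => ?_
        rw [if_pos trivial, hdeg _ ((hmemA _).2 ⟨ξ.2, (Finset.mem_filter.1 hξ).2.1⟩)]
        ring
    _ ≤ _ := Finset.sum_le_sum_of_subset fun ξ hξ => Finset.mem_filter.2
        ⟨(Finset.mem_filter.1 hξ).1, Or.inl (Finset.mem_union_left _ hξ)⟩

end CfsgLib.OddCoh
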