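import Mathlib
import Cfsg.Agent.OddCoh.Link
import Cfsg.Agent.FeitCoh.Main
import Cfsg.Prelude.Def_Transfer

/-!
Coherence for a nilpotent trivial-intersection subgroup containing its centralisers.
-/

set_option autoImplicit false

namespace CfsgLib.OddCoh

open CfsgLib.CharBasics CfsgLib.Exceptional CfsgLib.FeitCoh

universe u

variable {G : Type u} [Group G] [Fintype G] (K : Subgroup G)

local notation "L" => Subgroup.normalizer (K : Set G)

theorem index_commutator_eq : (⁅K, K⁆.subgroupOf K).index = Nat.card (Abelianization K) := by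
  rw [← Subgroup.map_subtype_commutator, Subgroup.subgroupOf, Subgroup.comap_map_eq_self_of_injective K.subtype_injective]
  rfl

theorem card_abelianization_congr {A B : Type u} [Group A] [Group B] (f : A ≃* B) :
    Nat.card (Abelianization A) = Nat.card (Abelianization B) := Nat.card_congr f.abelianizationCongr.toEquiv

/-- For odd `p` a non-abelian `p`-subgroup with the centraliser condition has odd local subgroup. -/
theorem odd_local (hC : ∀ k ∈ K, k ≠ 1 → Subgroup.centralizer ({k} : Set G) ≤ K)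
    {p : ℕ} [Fact p.Prime] (hp2 : p ≠ 2) (hp : IsPGroup p K) (hna : ¬ IsMulCommutative K) :
    Odd (Nat.card ↥L) := by
  rcases Nat.even_or_odd (Nat.card ↥L) with h | h
  swap
  · exact h
  obtain ⟨t, ht⟩ := exists_prime_orderOf_dvd_card' (G := ↥L) 2 (even_iff_two_dvd.1 h)
  have htK : (t : G) ∉ K := fun hK => by
    obtain ⟨n, hn⟩ := IsPGroup.iff_card.1 hp
    have h2 := Subgroup.orderOf_dvd_natCard K hK
    rw [Subgroup.orderOf_coe, ht, hn] at h2
    exact hp2 ((Nat.prime_dvd_prime_iff_eq Nat.prime_two Fact.out).1 (Nat.prime_two.dvd_of_dvd_pow h2)).symm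
  haveI : (K.subgroupOf L).Normal := inferInstance
  let φ : MulAut (K.subgroupOf L) := MulAut.conjNormal t
  have ht2 : t * t = 1 := by rw [← pow_two, ← ht, pow_orderOf_eq_one]
  have hinv : Function.Involutive φ := fun x => by
    apply Subtype.ext
    simp only [φ, MulAut.conjNormal_apply]
    rw [inv_eq_of_mul_eq_one_left ht2]
    calc t * (t * (x : ↥L) * t) * t = (t * t) * x * (t * t) := by group
      _ = x := by rw [ht2]; group
  have hfpf : MonoidHom.FixedPointFree φ := fun x hx => by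
    by_contra hne
    have hx1 : ((x : ↥L) : G) ≠ 1 := fun h => hne (Subtype.ext (Subtype.ext h))
    refine htK (hC _ (Subgroup.mem_subgroupOf.1 x.2) hx1 ?_)
    rw [Subgroup.mem_centralizer_singleton_iff]
    have := congrArg (fun y : K.subgroupOf L => ((y : ↥L) : G)) hx
    simp only [φ, MulAut.conjNormal_apply, Subgroup.coe_mul, InvMemClass.coe_inv] at this
    exact mul_inv_eq_iff_eq_mul.1 this
  refine absurd ⟨⟨fun a b => ?_⟩⟩ hna
  have := hfpf.commute_all_of_involutive hinv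
    ⟨⟨a, Subgroup.le_normalizer a.2⟩, Subgroup.mem_subgroupOf.2 a.2⟩
    ⟨⟨b, Subgroup.le_normalizer b.2⟩, Subgroup.mem_subgroupOf.2 b.2⟩
  exact Subtype.ext (congrArg (fun y : K.subgroupOf L => ((y : ↥L) : G)) this.eq)

/-- Coherence, outside the two exceptional cases. -/
theorem coherent_ti [Fintype ↥L]
    (hTI : ∀ g : G, g ∉ L → ∀ k ∈ K, g * k * g⁻¹ ∈ K → k = 1)
    (hC : ∀ k ∈ K, k ≠ 1 → Subgroup.centralizer ({k} : Set G) ≤ K) (hK1 : K ≠ ⊥) (hlt : K < L)
    (he : Nat.card K ≠ (K.subgroupOf L).index + 1)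
    (h2 : IsPGroup 2 K → ¬ IsMulCommutative K → 4 * (K.subgroupOf L).index ^ 2 + 1 < Nat.card (Abelianization K)) :
    Cfsg.IsCoherent {χ : ↥L → ℂ | Cfsg.IsIrrCharacter ↥L χ ∧ Rel (K.subgroupOf L) χ}
      ({1}ᶜ : Set ↥L) (fun α : ↥L → ℂ => Cfsg.indFun L α) := by
  classical
  by_cases hbad : ∃ p : ℕ, p.Prime ∧ p ≠ 2 ∧ IsPGroup p K ∧ ¬ IsMulCommutative K
  · obtain ⟨p, hp, hp2, hpK, hna⟩ := hbad
    haveI := Fact.mk hp
    exact coherent_pgroup_odd K hTI hC hlt (odd_local K hC hp2 hpK hna) hp2 hpK hna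
  let eK : (K.subgroupOf L) ≃* K := Subgroup.subgroupOfEquivOfLe Subgroup.le_normalizer
  obtain ⟨hτ, hτ1⟩ := ind_isometry K hTI hC
    (S := {χ : ↥L → ℂ | Cfsg.IsIrrCharacter ↥L χ ∧ Rel (K.subgroupOf L) χ}) (fun χ h => h)
  refine CfsgLib.FeitCoh.coherent (K.subgroupOf L) ?_ ?_ (centralizer_le_in_normalizer K hC) ?_ ?_ _ hτ hτ1
  · intro h
    exact hK1 ((Subgroup.eq_bot_iff_forall _).2 fun k hk => congrArg Subtype.val
      ((Subgroup.eq_bot_iff_forall _).1 h ⟨k, Subgroup.le_normalizer hk⟩ (Subgroup.mem_subgroupOf.2 hk)))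
  · intro h
    exact hlt.not_ge fun x hx => Subgroup.mem_subgroupOf.1 (h ▸ Subgroup.mem_top (⟨x, hx⟩ : ↥L))
  · rwa [Nat.card_congr eK.toEquiv]
  · intro q hq hqK hnc
    have hnc' : ¬ IsMulCommutative K := fun h => hnc ⟨⟨fun a b => eK.injective (by
      rw [map_mul, map_mul]; exact h.1.1 _ _)⟩⟩
    have hqK' : IsPGroup q K := hqK.of_equiv eK
    rw [card_abelianization_congr eK]
    by_cases hq2 : q = 2
    · exact h2 (hq2 ▸ hqK') hnc'
    · exact absurd ⟨q, hq, hq2, hqK', hnc'⟩ hbad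

/-- When the local subgroup is transitive on the non-identity elements. -/
theorem transitive_case (hnil : Group.IsNilpotent K)
    (hC : ∀ k ∈ K, k ≠ 1 → Subgroup.centralizer ({k} : Set G) ≤ K) (hK1 : K ≠ ⊥)
    (he : Nat.card K = (K.subgroupOf L).index + 1) [Fintype ↥L] :
    (∃ p : ℕ, p.Prime ∧ p ∣ Nat.card K ∧ Cfsg.IsElementaryAbelian p K) ∧
      Nat.card {χ : ↥L → ℂ // Cfsg.IsIrrCharacter ↥L χ ∧
        ∃ k : ↥L, (k : G) ∈ K ∧ χ k ≠ χ 1} = 1 := by
  classical
  have hC' := centralizer_le_in_normalizer K hC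
  set K' := K.subgroupOf L with hK'
  haveI : Nontrivial K := (Subgroup.nontrivial_iff_ne_bot _).2 hK1
  haveI := hnil
  obtain ⟨z, hz⟩ : ∃ z : K, z ∈ Subgroup.center K ∧ z ≠ 1 := by
    obtain ⟨⟨z, hz⟩, hz1⟩ := Subgroup.ne_bot_iff_exists_ne_one.1
      (Group.IsNilpotent.center_ne_bot (G := K))
    exact ⟨z, hz, fun h => hz1 (Subtype.ext h)⟩
  -- the orbit of `z` covers all non-identity elements
  let f : ↥L ⧸ K' → {k : K // k ≠ 1} := fun c => Quotient.liftOn' c
    (fun x => ⟨⟨(x : G) * z * (x : G)⁻¹, (Subgroup.mem_normalizer_iff.1 x.2 z).1 z.2⟩,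
      fun h => hz.2 (Subtype.ext (conj_eq_one_iff.1 (congrArg Subtype.val h)))⟩)
    (fun x y hxy => by
      have h := Subgroup.mem_subgroupOf.1 (QuotientGroup.leftRel_apply.1 hxy)
      apply Subtype.ext; apply Subtype.ext
      have hcomm := congrArg Subtype.val (Subgroup.mem_center_iff.1 hz.1 ⟨_, h⟩)
      simp only [Subgroup.coe_mul, InvMemClass.coe_inv] at hcomm ⊢
      calc (x : G) * z * (x : G)⁻¹ = x * ((z : G) * ((x : G)⁻¹ * y)) * (y : G)⁻¹ := by group
        _ = (y : G) * z * (y : G)⁻¹ := by rw [← hcomm]; group)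
  have hinj : Function.Injective f := by
    rintro ⟨x⟩ ⟨y⟩ h
    refine Quotient.sound' (QuotientGroup.leftRel_apply.2 (Subgroup.mem_subgroupOf.2 ?_))
    have h' : (x : G) * z * (x : G)⁻¹ = (y : G) * z * (y : G)⁻¹ := congrArg (fun k : {k : K // k ≠ 1} => ((k : K) : G)) h
    refine hC z z.2 (fun e => hz.2 (Subtype.ext e)) (Subgroup.mem_centralizer_singleton_iff.2 ?_)
    simp only [Subgroup.coe_mul, InvMemClass.coe_inv]
    calc (x : G)⁻¹ * y * z = (x : G)⁻¹ * ((y : G) * z * (y : G)⁻¹) * y := by group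
      _ = (z : G) * ((x : G)⁻¹ * y) := by rw [← h']; group
  have hbij : Function.Bijective f := by
    rw [Nat.bijective_iff_injective_and_card]
    refine ⟨hinj, ?_⟩
    show K'.index = _
    haveI := Fintype.ofFinite K
    have h1 : Nat.card {k : K // k ≠ 1} = Nat.card K - 1 := by
      simp [Nat.card_eq_fintype_card, Fintype.card_subtype_compl]
    omega
  have horbit : ∀ k : K, k ≠ 1 → ∃ x : ↥L, (k : G) = (x : G) * z * (x : G)⁻¹ := fun k hk => by
    obtain ⟨⟨x⟩, hx⟩ := hbij.2 ⟨k, hk⟩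
    exact ⟨x, (congrArg (fun k : {k : K // k ≠ 1} => ((k : K) : G)) hx).symm⟩
  obtain ⟨p, hp, hpK⟩ := Nat.exists_prime_and_dvd (Finite.one_lt_card (α := K)).ne'
  haveI := Fact.mk hp
  obtain ⟨x₀, hx₀⟩ := exists_prime_orderOf_dvd_card' (G := K) p hpK
  have hord : ∀ k : K, k ≠ 1 → orderOf k = orderOf z := fun k hk => by
    obtain ⟨x, hx⟩ := horbit k hk
    rw [← Subgroup.orderOf_coe, hx, ← MulAut.conj_apply, MulEquiv.orderOf_eq, Subgroup.orderOf_coe]
  have hzp : orderOf z = p := by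
    rw [← hord x₀ (fun h => hp.one_lt.ne' (by rw [← hx₀, h, orderOf_one]) ), hx₀]
  refine ⟨⟨p, hp, hpK, ⟨⟨fun a b => ?_⟩⟩, fun a ha => ?_⟩, ?_⟩
  · by_cases ha : a = 1
    · rw [ha, one_mul, mul_one]
    obtain ⟨x, hx⟩ := horbit a ha
    apply Subtype.ext
    simp only [Subgroup.coe_mul]
    have hb : (x : G)⁻¹ * b * x ∈ K :=
      (Subgroup.mem_normalizer_iff.1 x.2 _).2 (by simpa [mul_assoc] using b.2)
    have h := congrArg Subtype.val (Subgroup.mem_center_iff.1 hz.1 ⟨_, hb⟩)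
    simp only [Subgroup.coe_mul] at h
    rw [hx]
    calc (x : G) * z * (x : G)⁻¹ * b = (x : G) * ((z : G) * ((x : G)⁻¹ * b * x)) * (x : G)⁻¹ := by group
      _ = b * ((x : G) * z * (x : G)⁻¹) := by rw [← h]; group
  · by_cases h1 : (⟨a, ha⟩ : K) = 1
    · rw [show a = 1 from congrArg Subtype.val h1, one_pow]
    · have := pow_orderOf_eq_one (⟨a, ha⟩ : K)
      rw [hord _ h1, hzp] at this
      exact congrArg Subtype.val this
  · have hab : IsMulCommutative K' := ⟨⟨fun a b => by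
      have hz' : ∀ u v : K, u * v = v * u := fun u v => by
        by_cases hu : u = 1
        · rw [hu, one_mul, mul_one]
        obtain ⟨x, hx⟩ := horbit u hu
        apply Subtype.ext
        simp only [Subgroup.coe_mul]
        have hb : (x : G)⁻¹ * v * x ∈ K :=
          (Subgroup.mem_normalizer_iff.1 x.2 _).2 (by simpa [mul_assoc] using v.2)
        have h := congrArg Subtype.val (Subgroup.mem_center_iff.1 hz.1 ⟨_, hb⟩)
        simp only [Subgroup.coe_mul] at h
        rw [hx]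
        calc (x : G) * z * (x : G)⁻¹ * v = (x : G) * ((z : G) * ((x : G)⁻¹ * v * x)) * (x : G)⁻¹ := by group
          _ = v * ((x : G) * z * (x : G)⁻¹) := by rw [← h]; group
      have := congrArg Subtype.val (hz' ⟨_, Subgroup.mem_subgroupOf.1 a.2⟩ ⟨_, Subgroup.mem_subgroupOf.1 b.2⟩)
      exact Subtype.ext (Subtype.ext this)⟩⟩
    haveI := Fintype.ofFinite K'
    haveI : Fintype (Cfsg.IrrCharacter ↥L) := Fintype.ofFinite _
    haveI : Fintype (Cfsg.IrrCharacter K') := Fintype.ofFinite _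
    have h := sum_pdeg_sq K' hC' (fun _ => True)
    simp only [if_true] at h
    have hK'card : Nat.card K' = K'.index + 1 :=
      (Nat.card_congr (Subgroup.subgroupOfEquivOfLe Subgroup.le_normalizer).toEquiv).trans he
    rw [Finset.sum_congr rfl (g := fun _ => 1) (fun (θ : Cfsg.IrrCharacter K') _ => by rw [charDegree_comm θ.2, one_pow])
      (s₁ := Finset.univ.erase oneChar), Finset.sum_const, Finset.card_erase_of_mem (Finset.mem_univ _),
      smul_eq_mul, mul_one, Finset.card_univ, ← Nat.card_eq_fintype_card] at h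
    have hirrK : Nat.card (Cfsg.IrrCharacter K') = Nat.card K' := by
      rw [← sum_sq_degree (G := K'), Finset.sum_congr rfl (g := fun _ => 1) (fun (θ : Cfsg.IrrCharacter K') _ => by rw [charDegree_comm θ.2, one_pow]), Finset.sum_const, smul_eq_mul, mul_one, Finset.card_univ,
        Nat.card_eq_fintype_card]
    rw [hirrK, hK'card, Nat.add_sub_cancel] at h
    have hsum := Nat.eq_of_mul_eq_mul_left (Nat.pos_of_ne_zero Subgroup.index_ne_zero_of_finite)
      (h.trans (mul_one _).symm)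
    set F := Finset.univ.filter (fun χ : Cfsg.IrrCharacter ↥L => Rel K' (χ : ↥L → ℂ))
    have hF1 : F.card ≤ 1 := by
      rw [← hsum, Finset.card_eq_sum_ones]
      refine Finset.sum_le_sum fun χ hχ => ?_
      have := (pdeg_spec K' hC' χ.2 (Finset.mem_filter.1 hχ).2).1
      exact Nat.one_le_pow _ _ this
    have hF0 : F.card ≠ 0 := fun h0 => by
      rw [Finset.card_eq_zero.1 h0, Finset.sum_empty] at hsum
      exact zero_ne_one hsum
    let g : {χ : ↥L → ℂ // Cfsg.IsIrrCharacter ↥L χ ∧ ∃ k : ↥L, (k : G) ∈ K ∧ χ k ≠ χ 1} ≃ F :=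
      { toFun := fun χ => ⟨⟨χ, χ.2.1⟩, Finset.mem_filter.2 ⟨Finset.mem_univ _, χ.2.2⟩⟩
        invFun := fun c => ⟨(c : Cfsg.IrrCharacter ↥L), (c : Cfsg.IrrCharacter ↥L).2, (Finset.mem_filter.1 c.2).2⟩
        left_inv := fun _ => rfl
        right_inv := fun _ => rfl }
    rw [Nat.card_congr g, Nat.card_eq_fintype_card, Fintype.card_coe]
    omega

end CfsgLib.OddCoh
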